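import Cfsg.Agent.H678.DG.Tits
import Cfsg.Agent.H603.FD.TitsRow
import Cfsg.Agent.H680.Dl.Hall
import Cfsg.Agent.H759.Dl.Small

/-!
# The row of the Tits group for S4769 (helper195)
-/

set_option autoImplicit false

namespace Cfsg.Agent.H195.Dl.Tits

open Cfsg Cfsg.Agent.H246.Dl Cfsg.Agent.H759.Dl Cfsg.Agent.H596.OneFacts

universe u

theorem card_tits : Nat.card Cfsg.Lie.TitsGroup = 2 ^ 11 * (3 ^ 3 * 5 ^ 2 * 13) := by
  obtain ⟨-, -, -, hcard⟩ := Cfsg.Agent.S1074.result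
  have h3 : Nat.card (commutator ↥(Cfsg.Lie.twistedF4 (ZMod 2) 1)) = 2 ^ 11 * 3 ^ 3 * 5 ^ 2 * 13 := hcard
  rw [h3]
  norm_num

theorem card_iso {S : Type*} [Group S] (h : Lie.IsoTits S) : Nat.card S = 2 ^ 11 * (3 ^ 3 * 5 ^ 2 * 13) := by
  obtain ⟨e⟩ := h
  rw [← card_tits]
  exact Nat.card_congr e.toEquiv

theorem finite_iso {S : Type*} [Group S] (h : Lie.IsoTits S) : Finite S :=
  Nat.finite_of_card_ne_zero (by rw [card_iso h]; norm_num)

/-- Three orbits of characters of even degree. -/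
theorem many_two : Many 2 Cfsg.Lie.TitsGroup 3 := by
  obtain ⟨f⟩ := H707.RowTits.equiv
  have h1 : ∀ d ∈ ({78, 650, 2048} : Finset ℕ), 2 ∣ d ∧ ∃ χ : Cfsg.Lie.TitsGroup → ℂ,
      IsIrrCharacter Cfsg.Lie.TitsGroup χ ∧ χ 1 = d := by
    have ht : Lie.IsoTits Cfsg.Lie.TitsGroup := ⟨MulEquiv.refl _⟩
    have hT : Finite Cfsg.Lie.TitsGroup := finite_iso ht
    have hc := Cfsg.Agent.SporadicB.RuTits.card_T
    have : Finite ↥Cfsg.Agent.SporadicB.RuTits.T := Nat.finite_of_card_ne_zero (by rw [hc]; norm_num)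
    have key : ∀ d : ℕ, (∃ χ : IrrCharacter ↥Cfsg.Agent.SporadicB.RuTits.T, charDegree (χ : ↥Cfsg.Agent.SporadicB.RuTits.T → ℂ) = d) →
        ∃ χ : Cfsg.Lie.TitsGroup → ℂ, IsIrrCharacter Cfsg.Lie.TitsGroup χ ∧ χ 1 = d := by
      rintro d ⟨χ, hχ⟩
      refine ⟨(χ : _ → ℂ) ∘ f, Characters.Core.isIrr_comp f.toMonoidHom f.surjective χ.2, ?_⟩
      rw [Function.comp_apply, map_one, Blocks.Basic.irr_one_eq_charDegree χ.2, hχ]
    intro d hd
    simp only [Finset.mem_insert, Finset.mem_singleton] at hd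
    rcases hd with rfl | rfl | rfl
    · exact ⟨by norm_num, key _ H678.DG.Tits.deg_78⟩
    · exact ⟨by norm_num, key _ H678.DG.Tits.deg_650⟩
    · obtain ⟨χ, hχ⟩ := Cfsg.Agent.H603.FD.TitsRow.mem_2048
      exact ⟨by norm_num, χ, χ.2, by rw [Blocks.Basic.irr_one_eq_charDegree χ.2, hχ]⟩
  exact Many.of_finset h1

theorem dlLe_two {S : Type*} [Group S] [Finite S] (h : Lie.IsoTits S) : DlLe 2 3 S := by
  have : Fact (Nat.Prime 2) := ⟨Nat.prime_two⟩
  refine (H680.Dl.dlLe_of_card' (a := 11) ?_).1 le_rfl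
  rw [card_iso h]
  norm_num

/-- The Tits group, `p = 2`. -/
theorem row_two {S : Type*} [Group S] [Finite S] (h : Lie.IsoTits S) : Row 2 S := by
  have h2 := dlLe_two h
  obtain ⟨e⟩ := h
  have h3 : Many 2 S 3 := Many.of_equiv (S' := Cfsg.Lie.TitsGroup) e many_two
  exact Row.of_le h2 h3 le_rfl

/-- **The Tits group** (`TwoOr 3` is used for `p = 3`, Itô-Michler for `p = 5, 13`). -/
theorem row_tits (T : FactTwo.{u}) (I : H671.H5.FactIM.{u}) : RowF.{u} (fun S => Lie.IsoTits S) := by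
  intro S _ _ _ h p hp hd
  have hc : ¬ IsMulCommutative S := by
    intro hc
    have h1 := card_iso h
    have h2 : (Nat.card S).Prime := by
      let _ : CommGroup S := { (inferInstance : Group S) with mul_comm := hc.1.1 }
      exact IsSimpleGroup.prime_card
    rw [h1] at h2
    exact absurd h2 (by norm_num)
  have hd' := hd
  rw [card_iso h] at hd'
  have h2 : p = 2 ∨ p = 3 ∨ p = 5 ∨ p = 13 := by
    rcases (Nat.Prime.dvd_mul hp).1 hd' with h3 | h3
    · exact Or.inl ((Nat.prime_dvd_prime_iff_eq hp Nat.prime_two).1 (hp.dvd_of_dvd_pow h3))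
    rcases (Nat.Prime.dvd_mul hp).1 h3 with h3 | h3
    · rcases (Nat.Prime.dvd_mul hp).1 h3 with h3 | h3
      · exact Or.inr (Or.inl ((Nat.prime_dvd_prime_iff_eq hp Nat.prime_three).1 (hp.dvd_of_dvd_pow h3)))
      · exact Or.inr (Or.inr (Or.inl ((Nat.prime_dvd_prime_iff_eq hp Nat.prime_five).1 (hp.dvd_of_dvd_pow h3))))
    · exact Or.inr (Or.inr (Or.inr ((Nat.prime_dvd_prime_iff_eq hp (by norm_num)).1 h3)))
  rcases h2 with rfl | rfl | rfl | rfl
  · exact row_two h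
  · refine row_of_dl_two T I hc hp hd ?_
    have : Fact (Nat.Prime 3) := ⟨hp⟩
    refine H680.Dl.dlLe_two (a := 3) (by norm_num) ?_
    rw [card_iso h]
    norm_num
  · refine row_of_card I hc hp hd ?_
    rw [card_iso h]
    norm_num
  · refine row_of_card I hc hp hd ?_
    rw [card_iso h]
    norm_num

end Cfsg.Agent.H195.Dl.Tits
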